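import Cfsg.Agent.H370.DP.Def
import Cfsg.Agent.H378.AdjTab

/-!
# Joint elements of exceptional groups: pigeonhole and torus elements (helper733)

* `exc_of_classes` : `Exc S` if the primes `r > 31` dividing `|S|` fall into at most 19 classes (`f r ∈ E`), apart from
  one prime `p`, and every finite set of such primes in one class divides the order of one element;
* `joint_of_comm` : pairwise commuting elements;
* `joint_of_chain` : primes dividing the value at `q` of a factor of the characteristic polynomial of `w`.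
-/

set_option autoImplicit false
set_option linter.unusedSectionVars false

namespace Cfsg.Agent.H733.ExcCore

open Cfsg.Agent.H370.DP

theorem exc_of_classes {S : Type*} [Group S] (p : ℕ) (f : ℕ → ℕ) (E : Finset ℕ) (hE : E.card ≤ 20)
    (h1 : ∀ r : ℕ, r.Prime → 31 < r → r ∣ Nat.card S → r = p ∨ f r ∈ E)
    (h2 : ∀ e ∈ E, ∀ T : Finset ℕ, (∀ r ∈ T, r.Prime ∧ 31 < r ∧ r ∣ Nat.card S ∧ f r = e) → Ind S T) : Exc S := by
  intro c T hc hT hcard
  have h3 : E.card * c < (T.erase p).card := by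
    have h4 : T.card ≤ (T.erase p).card + 1 := by
      have := Finset.pred_card_le_card_erase (s := T) (a := p)
      omega
    have h5 : E.card * c ≤ 20 * c := Nat.mul_le_mul_right c hE
    omega
  obtain ⟨e, he, hfib⟩ := Finset.exists_lt_card_fiber_of_mul_lt_card_of_maps_to (s := T.erase p) (t := E) (f := f)
    (fun r hr => by
      rw [Finset.mem_erase] at hr
      obtain ⟨h6, h7, h8⟩ := hT r hr.2
      exact (h1 r h6 h7 h8).resolve_left hr.1) h3
  obtain ⟨T', hT', hcT'⟩ := Finset.exists_subset_card_eq (Nat.succ_le_of_lt hfib)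
  have hsub : ∀ r ∈ T', r ∈ T ∧ f r = e := by
    intro r hr
    have h9 := hT' hr
    rw [Finset.mem_filter, Finset.mem_erase] at h9
    exact ⟨h9.1.2, h9.2⟩
  refine ⟨T', fun r hr => (hsub r hr).1, hcT', ?_⟩
  exact h2 e he T' fun r hr => ⟨(hT r (hsub r hr).1).1, (hT r (hsub r hr).1).2.1, (hT r (hsub r hr).1).2.2, (hsub r hr).2⟩

theorem exc_congr {S S' : Type*} [Group S] [Group S'] (e : S ≃* S') (h : Exc S) : Exc S' := by
  intro c T hc hT hcard
  obtain ⟨T', h1, h2, h3⟩ := h c T hc (fun r hr => by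
    rw [Nat.card_congr e.toEquiv]
    exact hT r hr) hcard
  exact ⟨T', h1, h2, Ind.congr e h3⟩

/-- pairwise commuting elements whose orders are divisible by the members of `T` -/
theorem joint_of_comm {S : Type*} [Group S] [Finite S] {T : Finset ℕ} {x : ℕ → S}
    (h1 : ∀ r ∈ T, r ∣ orderOf (x r)) (h2 : ∀ r ∈ T, ∀ s ∈ T, x r * x s = x s * x r) : Ind S T := by
  classical
  let A : Subgroup S := Subgroup.closure (x '' (T : Set ℕ))
  letI : CommGroup A := Subgroup.closureCommGroupOfComm (by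
    rintro _ ⟨r, hr, rfl⟩ _ ⟨s, hs, rfl⟩
    exact h2 r hr s hs)
  obtain ⟨g, hg⟩ := Monoid.exists_orderOf_eq_exponent (G := A) Monoid.ExponentExists.of_finite
  refine ⟨(g : S), fun r hr => ?_⟩
  have h3 : x r ∈ A := Subgroup.subset_closure ⟨r, hr, rfl⟩
  have h4 : orderOf (⟨x r, h3⟩ : A) ∣ Monoid.exponent A := Monoid.order_dvd_exponent _
  rw [← hg] at h4
  have h5 : orderOf (⟨x r, h3⟩ : A) = orderOf (x r) := (Subgroup.orderOf_mk _ _)
  have h6 : orderOf (g : S) = orderOf g := Subgroup.orderOf_coe g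
  rw [h6]
  rw [h5] at h4
  exact (h1 r hr).trans h4

section Torus

open CoxeterSystem Subgroup Cfsg Cfsg.Lie Cfsg.Lie.ChevalleyDatum
open Cfsg.Agent.ChevalleyStructure Cfsg.Agent.ChevalleyStructure.Elts Cfsg.Agent.ChevalleyStructure.CoxeterGeom
  Cfsg.Agent.ChevalleyStructure.CoxeterGeomTypes Cfsg.Agent.ChevalleyStructure.NPerm
open Cfsg.Agent.Tits.Roots Cfsg.Agent.Tits.Core Cfsg.Agent.Nodes.Reps Cfsg.Agent.Nodes.BNOf
  Cfsg.Agent.Nodes.RGDChev Cfsg.Agent.Nodes.Bruhat
open Cfsg.Agent.KFacts.RgdField Cfsg.Agent.KFacts.RgdChevCoord Cfsg.Agent.BpExc.TorCent Cfsg.Agent.BpExc.TorChev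
open Cfsg.Agent.BpExc.Tow Cfsg.Agent.BpExc.TowChev Cfsg.Agent.BpExc.FamExt Cfsg.Agent.BpExc.FamUntw
  Cfsg.Agent.BpExc.FamInst Cfsg.Agent.BpExc.LangFr Cfsg.Agent.BpExc.FamField
open Cfsg.Agent.H378.TorDual Cfsg.Agent.H378.TorChar Cfsg.Agent.H378.TorFin Cfsg.Agent.H378.AdjTab
open Cfsg.Agent.H493.PGTorus Cfsg.Agent.H129.WData

universe u

/-- the product of the primes of `T` divides `z` -/
theorem prod_dvd_int {T : Finset ℕ} {z : ℤ} (h : ∀ r ∈ T, r.Prime ∧ (r : ℤ) ∣ z) : ((∏ r ∈ T, r : ℕ) : ℤ) ∣ z := by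
  rw [← Int.dvd_natAbs, Int.natCast_dvd_natCast]
  exact Finset.prod_primes_dvd _ (fun r hr => (h r hr).1.prime) fun r hr => by
    rw [← Int.natCast_dvd_natCast, Int.dvd_natAbs]
    exact (h r hr).2

variable {D : ChevalleyDatum} {l : ℕ} {M : CoxeterMatrix (Fin l)} (hp : IsType D l M)
  {W : Type*} [Group W] [Finite W] (cs : CoxeterSystem M W)

include hp cs in
/-- **Primes dividing the value at `q` of a factor of the characteristic polynomial of an element of the Weyl group.** -/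
theorem joint_of_chain {d : ℕ} {B : Fin l → Fin l → ℤ} (hB : InvC D l d B) (hd0 : d ≠ 0) {A : Mat l}
    (hA : ∀ i j, A i j = cartanOf D l i j) {L : List (Fin l × Mat l)} (hL : ChainOK A L)
    {f : ℕ} {c : Fin (f + 1) → ℤ} {V : Fin (f + 1) → Fin l → ℤ} {U : Fin l → ℤ} (h : EigOK (hd L) c V U)
    {F : Type u} [Field F] [Finite F] {T : Finset ℕ}
    (hT : ∀ r ∈ T, r.Prime ∧ ¬ r ∣ d ∧ (r : ℤ) ∣ pv c (Nat.card F : ℕ)) : Ind ↥(D.group F) T := by
  obtain ⟨x, -, -, hx, -⟩ := exists_comm_torus hp cs hB hd0 hA hL h h (F := F)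
    (Finset.prod_pos fun r hr => (hT r hr).1.pos) (Finset.prod_pos fun r hr => (hT r hr).1.pos)
    (prod_dvd_int fun r hr => ⟨(hT r hr).1, (hT r hr).2.2⟩) (prod_dvd_int fun r hr => ⟨(hT r hr).1, (hT r hr).2.2⟩)
  refine ⟨x, fun r hr => ?_⟩
  have h1 : r ∣ orderOf x * Nat.gcd d (Nat.card F - 1) := (Finset.dvd_prod_of_mem _ hr).trans hx
  exact ((hT r hr).1.dvd_mul.1 h1).resolve_right fun h2 => (hT r hr).2.1 (h2.trans (Nat.gcd_dvd_left _ _))

end Torus

end Cfsg.Agent.H733.ExcCore
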