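import Mathlib
import Cfsg.Agent.H733.RootNd3
import Cfsg.Agent.BenderType.Inv

/-!
# Two involutions of `L₂(q)`, `Sz(q)`, `U₃(q)`, `q` even, never have product of order 4
-/

set_option autoImplicit false

namespace Cfsg.Agent.H733

open Cfsg Cfsg.Agent.H737

/-- If involutions of every Sylow 2-subgroup commute, then no two involutions have product of
order 4. -/
theorem noFour_of_sylow {Q : Type*} [Group Q] [Finite Q]
    (h : ∀ (P : Sylow 2 Q) (x y : ↥(P : Subgroup Q)), x * x = 1 → y * y = 1 → x * y = y * x) :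
    NoFour Q := by
  intro u w hu hw h4
  have h1 : orderOf (u * w) ∣ 2 ^ 2 := orderOf_dvd_of_pow_eq_one h4
  obtain ⟨k, -, hk⟩ := (Nat.dvd_prime_pow Nat.prime_two).1 h1
  have : Fact (Nat.Prime 2) := ⟨Nat.prime_two⟩
  obtain ⟨P, hP⟩ := (two_group_of_pair hu hw hk).exists_le_sylow
  have hu' : u ∈ (P : Subgroup Q) := hP (Subgroup.subset_closure (by simp))
  have hw' : w ∈ (P : Subgroup Q) := hP (Subgroup.subset_closure (by simp))
  have h2 := congrArg Subtype.val (h P ⟨u, hu'⟩ ⟨w, hw'⟩ (Subtype.ext hu) (Subtype.ext hw))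
  have h3 : u * w = w * u := h2
  calc (u * w) ^ 2 = u * (w * u) * w := by rw [pow_two]; group
    _ = u * (u * w) * w := by rw [h3]
    _ = (u * u) * (w * w) := by group
    _ = 1 := by rw [hu, hw, one_mul]

theorem NoFour.congr {Q R : Type*} [Group Q] [Group R] (h : NoFour Q) (e : R ≃* Q) : NoFour R := by
  intro u w hu hw h4
  have h1 := h (e u) (e w) (by rw [← map_mul, hu, map_one]) (by rw [← map_mul, hw, map_one])
    (by rw [← map_mul, ← map_pow, h4, map_one])
  rw [← map_mul, ← map_pow] at h1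
  exact (map_eq_one_iff e e.injective).1 h1

theorem noFour_suzuki {Q : Type*} [Group Q] [Finite Q] (h : Lie.IsoSuzuki Q) : NoFour Q := by
  obtain ⟨F, iF, iFin, m, hm, hF, ⟨e⟩⟩ := h
  refine NoFour.congr ?_ e
  exact noFour_of_sylow fun P => (BenderType.Inv.ty_sz hm hF P).comm

theorem noFour_psu {F : Type} [Field F] [Fintype F] {q : ℕ} [CharP F 2]
    (hF : Fintype.card F = q ^ 2) (hq : 4 ≤ q) : NoFour (PSU 3 F q) := by
  obtain ⟨n, hn⟩ : ∃ n, q = 2 ^ n := by
    obtain ⟨n, hp, hn⟩ := FiniteField.card F 2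
    rw [hF] at hn
    have h1 : q ∣ 2 ^ (n : ℕ) := ⟨q, by rw [← hn, pow_two]⟩
    obtain ⟨k, -, hk⟩ := (Nat.dvd_prime_pow Nat.prime_two).1 h1
    exact ⟨k, hk⟩
  have hn1 : 1 ≤ n := by
    rcases Nat.eq_zero_or_pos n with h1 | h1
    · rw [h1, pow_zero] at hn; omega
    · exact h1
  subst hn
  exact noFour_of_sylow fun P => (BenderType.Inv.ty_psu hn1 hF P).comm

theorem sq_eq_one_of_four {F : Type*} [Field F] [CharP F 2] {A : Matrix (Fin 2) (Fin 2) F}
    (hdet : A.det = 1) (h4 : A * A * (A * A) = 1) : A * A = 1 := by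
  have h2 : (2 : F) = 0 := CharTwo.two_eq_zero
  have hd : A 0 0 * A 1 1 - A 0 1 * A 1 0 = 1 := by rw [← hdet, Matrix.det_fin_two]
  obtain ⟨τ, hτ⟩ : ∃ τ, τ = A 0 0 + A 1 1 := ⟨_, rfl⟩
  have hCH : A * A = τ • A + 1 := by
    ext i j
    fin_cases i <;> fin_cases j <;>
      simp [Matrix.mul_apply, Fin.sum_univ_two, hτ] <;>
      first
        | (ring1)
        | linear_combination (-1 : F) * hd - h2
  have hsq : A * A * (A * A) = (τ * τ) • (A * A) + 1 := by
    have h5 : (τ • A + 1) * (τ • A + 1) = (τ * τ) • (A * A) + ((2 : F) * τ) • A + 1 := by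
      rw [add_mul, mul_add, mul_add, Matrix.smul_mul, Matrix.mul_smul, smul_smul, mul_one, one_mul,
        mul_one, two_mul, add_smul]
      abel
    rw [h2, zero_mul, zero_smul, add_zero] at h5
    rw [← h5, ← hCH]
  have h5 : (τ * τ) • (A * A) = 0 := by
    have := h4.symm.trans hsq
    simpa using this
  have h6 : (τ * τ) • (1 : Matrix (Fin 2) (Fin 2) F) = 0 := by
    have h7 : (τ * τ) • (A * A * (A * A)) = 0 := by
      rw [← Matrix.smul_mul, h5, zero_mul]
    rwa [h4] at h7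
  have h7 : τ * τ = 0 := by
    have := congrFun (congrFun h6 0) 0
    simpa using this
  have h8 : τ = 0 := mul_self_eq_zero.1 h7
  rw [hCH, h8, zero_smul, zero_add]

theorem noFour_psl {F : Type} [Field F] [Fintype F] [CharP F 2] :
    NoFour (Matrix.ProjectiveSpecialLinearGroup (Fin 2) F) := by
  intro u w hu hw h4
  obtain ⟨g, hg⟩ := QuotientGroup.mk_surjective (u * w)
  rw [← hg] at h4 ⊢
  rw [← QuotientGroup.mk_pow, QuotientGroup.eq_one_iff] at h4 ⊢
  rw [Matrix.SpecialLinearGroup.mem_center_iff] at h4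
  obtain ⟨r, hr, hr4⟩ := h4
  have hr1 : r = 1 := by
    have h1 : (r - 1) * (r - 1) = 0 := by
      have h2 : (2 : F) = 0 := CharTwo.two_eq_zero
      have h3 : r ^ 2 = 1 := by simpa using hr
      linear_combination h3 + (1 - r) * h2
    exact sub_eq_zero.1 (mul_self_eq_zero.1 h1)
  rw [hr1, map_one] at hr4
  have h5 : (g : Matrix (Fin 2) (Fin 2) F) * g * (g * g) = 1 := by
    rw [hr4]
    simp only [pow_succ, pow_zero, one_mul, mul_assoc, Matrix.SpecialLinearGroup.coe_mul]
  have h6 := sq_eq_one_of_four g.2 h5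
  have h7 : g ^ 2 = 1 := by
    apply Subtype.ext
    rw [pow_two]
    exact h6
  rw [h7]
  exact one_mem _

end Cfsg.Agent.H733
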