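import Mathlib
import Cfsg.Agent.H737.RootSim
import Cfsg.Agent.H737.RootComp

/-!
# Root involutions: the braid lemma and generalities on the graph `𝓔(D)`
-/

set_option autoImplicit false

namespace Cfsg.Agent.H733

open Cfsg Cfsg.Agent.H737

variable {G : Type*} [Group G]

/-- Noncommuting members of `D` whose product has order dividing 6 have product of order
dividing 3. -/
theorem cube_eq_one {D : Set G} (h : IsRootInvolutionSet D) {p q : G} (hp : p ∈ D) (hq : q ∈ D)
    (hc : ¬ Commute p q) (h6 : (p * q) ^ 6 = 1) : (p * q) ^ 3 = 1 := by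
  rcases opp_trichotomy h hp hq with h1 | h1 | h1
  · exact absurd h1 hc
  · have h2 : orderOf (p * q) ∣ 2 * 3 := orderOf_dvd_of_pow_eq_one (by simpa using h6)
    exact orderOf_dvd_iff_pow_eq_one.1
      (Nat.Coprime.dvd_of_dvd_mul_left h1.2.coprime_two_right h2)
  · have h2 : orderOf (p * q) ∣ 6 := orderOf_dvd_of_pow_eq_one h6
    rw [h1.1] at h2
    exact absurd h2 (by decide)

/-- The braid relation from order 3. -/
theorem braid_of_three {a x : G} (ha : a * a = 1) (hx : x * x = 1) (h3 : (a * x) ^ 3 = 1) :
    x * (a * x) = a * (x * a) := by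
  have h1 : a * (x * (a * (x * (a * x)))) = 1 := by
    rw [← h3]; simp only [pow_succ, pow_zero, one_mul, mul_assoc]
  calc x * (a * x) = (a * (x * a))⁻¹ * (a * (x * (a * (x * (a * x))))) := by group
    _ = (a * (x * a))⁻¹ := by rw [h1, mul_one]
    _ = a * (x * a) := by
      rw [mul_inv_rev, mul_inv_rev, inv_of_sq ha, inv_of_sq hx, mul_assoc]


theorem comm_of_eq {p q : G} (h : p * q = q * p) (z : G) : p * (q * z) = q * (p * z) := by
  rw [← mul_assoc, h, mul_assoc]

theorem reassoc2 {p q r s : G} (h : p * q = r * s) (z : G) : p * (q * z) = r * (s * z) := by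
  rw [← mul_assoc, h, mul_assoc]

theorem reassoc1 {p q : G} (h : p * q = 1) (z : G) : p * (q * z) = z := by
  rw [← mul_assoc, h, one_mul]

/-- **Braid lemma on a line.** Let `{x, t, xt}` be a line, `a ∈ D` with `(ax)^3 = 1`, `a ≠ x`, and
`a t` of order 4.  With `m = a t a` one has `x m x = t m`. -/
theorem braid_line {D : Set G} (h : IsRootInvolutionSet D) {a x t : G} (ha : a ∈ D) (hx : x ∈ D)
    (ht : t ∈ D) (hax : Opp a x) (h3 : (a * x) ^ 3 = 1) (hxt : Commute x t) (hxtD : x * t ∈ D)
    (h4 : orderOf (a * t) = 4) : x * (a * (t * (a * x))) = t * (a * (t * a)) := by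
  have haa := sq_of_mem h ha
  have hxx := sq_of_mem h hx
  have htt := sq_of_mem h ht
  have hbr := braid_of_three haa hxx h3
  -- `m = a t a`, `n = x m x`
  obtain ⟨m, hm⟩ : ∃ m, m = a * (t * a) := ⟨_, rfl⟩
  obtain ⟨n, hn⟩ : ∃ n, n = x * (m * x) := ⟨_, rfl⟩
  have hbr' : ∀ z, x * (a * (x * z)) = a * (x * (a * z)) := by
    intro z
    have := congrArg (· * z) hbr
    simpa only [mul_assoc] using this
  have hta : t * a = a * m := by rw [hm, reassoc1 haa]
  have hma : m * a = a * t := by rw [hm, mul_assoc, mul_assoc, haa, mul_one]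
  have hmm : m * m = 1 := by
    rw [hm]
    simp only [mul_assoc, reassoc1 haa, reassoc1 htt, haa]
  have hmx : m * x = x * n := by rw [hn, reassoc1 hxx]
  have hnx : n * x = x * m := by rw [hn, mul_assoc, mul_assoc, hxx, mul_one]
  have hnn : n * n = 1 := by
    rw [hn]
    simp only [mul_assoc, reassoc1 hxx, reassoc1 hmm, hxx]
  have htx : t * x = x * t := hxt.eq.symm
  have hna : n * a = a * n := by
    rw [hn, hm]
    simp only [mul_assoc]
    -- n a = x a t a x a = x a t (x a x) = x a x t a x = a x a t a x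
    rw [← hbr, reassoc2 htx, hbr']
  have hcm : Commute t m := by
    have := commute_of_order_four htt haa (by rw [orderOf_mul_comm' htt haa]; exact h4)
    rw [hm]
    simpa only [mul_assoc] using this
  have hmt : m * t = t * m := hcm.eq.symm
  have hnt : n * t = t * n := by
    rw [hn]
    simp only [mul_assoc]
    rw [← htx, reassoc2 hmt, ← reassoc2 htx]
  have hnm : n * m = m * n := by
    -- conjugate `n t = t n` by `a`
    have h1 : n * m = a * (n * t) * a := by
      rw [hm]
      simp only [← mul_assoc, hna]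
    have h2 : m * n = a * (t * n) * a := by
      rw [hm]
      simp only [mul_assoc, hna]
    rw [h1, h2, hnt]
  -- the cube
  have hcube : (a * (x * t)) ^ 3 = t * (m * n) := by
    have e1 : (a * (x * t)) ^ 3 = a * (x * (t * (a * (x * (t * (a * (x * t))))))) := by
      simp only [pow_succ, pow_zero, one_mul, mul_assoc]
    rw [e1]
    simp only [reassoc2 hta, reassoc2 htx, reassoc2 hmx, hbr', reassoc1 haa, reassoc1 hxx,
      reassoc2 hmt, hnt]
  have hff : t * (m * n) * (t * (m * n)) = 1 := by
    simp only [mul_assoc, reassoc2 hnt, reassoc2 hmt, reassoc2 hnm, reassoc1 htt, reassoc1 hmm, hnn]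
  have hxtt : x * (x * t) ∈ D := by rw [reassoc1 hxx]; exact ht
  have hnc : ¬ Commute a (x * t) :=
    not_commute_of_opp h hx hxtD ((Commute.refl x).mul_right hxt) hxtt ha hax
  have h6 : (a * (x * t)) ^ 6 = 1 := by
    rw [show (6 : ℕ) = 3 * 2 from rfl, pow_mul, hcube, pow_two, hff]
  have h7 := cube_eq_one h ha hxtD hnc h6
  rw [hcube] at h7
  have h8 : n = t * m := by
    calc n = (t * m) * (t * m) * n := by
            have : (t * m) * (t * m) = 1 := by
              simp only [mul_assoc, reassoc2 hmt, reassoc1 htt, hmm]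
            rw [this, one_mul]
      _ = t * m * (t * (m * n)) := by group
      _ = t * m := by rw [h7, mul_one]
  rw [← hm, ← h8, hn, hm]
  simp only [mul_assoc]

/-- **The order 3 lemma.** Let `{a, b, ab}` be a line, `x ∈ D` with `bx` of order 4 and `ax` of
order 3.  Then `t = (bx)^2` has `at` of order 4 and `(at)^2 = b`. -/
theorem sq_eq_partner {D : Set G} (h : IsRootInvolutionSet D) {a b x t : G} (ha : a ∈ D)
    (hb : b ∈ D) (hx : x ∈ D) (hab : Commute a b) (habD : a * b ∈ D) (h4 : orderOf (b * x) = 4)
    (hax : Opp a x) (h3 : (a * x) ^ 3 = 1) (htdef : t = b * (x * (b * x))) :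
    t ∈ D ∧ Commute b t ∧ Commute x t ∧ x * t ∈ D ∧ orderOf (a * t) = 4 ∧
      a * (t * (a * t)) = b := by
  have haa := sq_of_mem h ha
  have hbb := sq_of_mem h hb
  have hxx := sq_of_mem h hx
  have htD : t ∈ D := by
    have := mem_of_order_four h hb hx h4
    rw [htdef]
    simpa only [mul_assoc] using this
  have htt := sq_of_mem h htD
  have hbx : Commute b (x * b * x) := commute_of_order_four hbb hxx h4
  have hbt : Commute b t := by
    rw [htdef]
    have : b * (x * (b * x)) = b * (x * b * x) := by group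
    rw [this]
    exact (Commute.refl b).mul_right hbx
  have hxb4 : orderOf (x * b) = 4 := by rw [orderOf_mul_comm' hxx hbb]; exact h4
  have hxc : Commute x (b * x * b) := commute_of_order_four hxx hbb hxb4
  have hxt : Commute x t := by
    rw [htdef]
    have : b * (x * (b * x)) = (b * x * b) * x := by group
    rw [this]
    exact hxc.mul_right (Commute.refl x)
  have hxteq : x * t = b * x * b := by
    have : t = x * (b * x * b) := by
      rw [hxc.eq, htdef]; group
    rw [this, reassoc1 hxx]
  have hxtD : x * t ∈ D := by rw [hxteq]; exact conj_mem' h hx hb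
  have hnc : ¬ Commute a t := not_commute_of_opp h hx htD hxt hxtD ha hax
  have hno : ¬ Opp a t := by
    intro ho
    exact not_commute_of_opp h ha hb hab habD htD (Opp.symm' h ha htD ho) hbt.symm
  have hat4 := (order_four_of h ha htD hnc hno).1
  have hbl := braid_line h ha hx htD hax h3 hxt hxtD hat4
  obtain ⟨m, hm⟩ : ∃ m, m = a * (t * a) := ⟨_, rfl⟩
  have hmm : m * m = 1 := by
    rw [hm]
    simp only [mul_assoc, reassoc1 haa, reassoc1 htt, haa]
  have hcm : Commute t m := by
    have := commute_of_order_four htt haa (by rw [orderOf_mul_comm' htt haa]; exact hat4)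
    rw [hm]
    simpa only [mul_assoc] using this
  have hta : t * a = a * m := by rw [hm, reassoc1 haa]
  have hma : m * a = a * t := by rw [hm, mul_assoc, mul_assoc, haa, mul_one]
  obtain ⟨s, hs⟩ : ∃ s, s = t * m := ⟨_, rfl⟩
  have hss : s * s = 1 := by
    rw [hs]
    calc t * m * (t * m) = t * (m * t) * m := by group
      _ = t * (t * m) * m := by rw [hcm.eq]
      _ = (t * t) * (m * m) := by group
      _ = 1 := by rw [htt, hmm, one_mul]
  have hxmx : x * (m * x) = s := by
    have h0 := hbl
    rw [← hm] at h0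
    rw [hs, ← h0, hm]
    simp only [mul_assoc]
  have htx : t * x = x * t := hxt.eq.symm
  have hmx : m * x = x * s := by rw [← hxmx, reassoc1 hxx]
  have hsx : s * x = x * m := by rw [← hxmx, mul_assoc, mul_assoc, hxx, mul_one]
  have hsa : s * a = a * s := by
    rw [hs, mul_assoc, hma, ← mul_assoc, hta, mul_assoc, hcm.eq]
  have hts : t * s = m := by rw [hs, reassoc1 htt]
  have hms : m * s = t := by rw [hs, hcm.eq, reassoc1 hmm]
  have hbs : Commute b s := by
    rw [hs, hm]
    exact hbt.mul_right (hab.symm.mul_right (hbt.mul_right hab.symm))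
  have hxbx : b * x = x * (b * t) := by
    have : b * t = x * (b * x) := by rw [htdef, reassoc1 hbb]
    rw [this, reassoc1 hxx]
  -- the element `c = b s`
  obtain ⟨c, hc⟩ : ∃ c, c = b * s := ⟨_, rfl⟩
  have hcc : c * c = 1 := by
    rw [hc]
    calc b * s * (b * s) = b * (s * b) * s := by group
      _ = b * (b * s) * s := by rw [hbs.eq]
      _ = (b * b) * (s * s) := by group
      _ = 1 := by rw [hbb, hss, one_mul]
  have hca : Commute c a := by
    rw [hc]; exact hab.symm.mul_left hsa
  have hcs : Commute c s := by rw [hc]; exact hbs.mul_left (Commute.refl s)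
  have hcx : Commute c x := by
    show c * x = x * c
    rw [hc, mul_assoc, hsx, ← mul_assoc, hxbx, mul_assoc, mul_assoc, ← hts, reassoc1 htt]
  have hbsc : b = s * c := by
    rw [hc, hbs.eq, reassoc1 hss]
  have hcube : (x * (a * b)) ^ 3 = c := by
    have e1 : x * (a * b) = (x * (a * s)) * c := by
      nth_rw 1 [hbsc]; simp only [mul_assoc]
    have e2 : Commute (x * (a * s)) c := (hcx.symm.mul_left (hca.symm.mul_left hcs.symm))
    rw [e1, e2.mul_pow]
    have e3 : c ^ 3 = c := by rw [pow_succ, pow_two, hcc, one_mul]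
    have e4 : (x * (a * s)) ^ 3 = (x * a) ^ 3 := by
      have f1 : (x * (a * s)) ^ 3 = x * (a * (s * (x * (a * (s * (x * (a * s))))))) := by
        simp only [pow_succ, pow_zero, one_mul, mul_assoc]
      have f2 : (x * a) ^ 3 = x * (a * (x * (a * (x * a)))) := by
        simp only [pow_succ, pow_zero, one_mul, mul_assoc]
      rw [f1, f2]
      simp only [reassoc2 hsx, reassoc2 hma, reassoc2 htx, reassoc2 hta, hts, hmm, mul_one]
    have e5 : (x * a) ^ 3 = 1 := by
      have : x * a = (a * x)⁻¹ := by rw [mul_inv_rev, inv_of_sq haa, inv_of_sq hxx]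
      rw [this, inv_pow, h3, inv_one]
    rw [e4, e5, one_mul, e3]
  have haabD : a * (a * b) ∈ D := by rw [reassoc1 haa]; exact hb
  have hnc2 : ¬ Commute x (a * b) :=
    not_commute_of_opp h ha habD ((Commute.refl a).mul_right hab) haabD hx
      (Opp.symm' h ha hx hax)
  have h6 : (x * (a * b)) ^ 6 = 1 := by
    rw [show (6 : ℕ) = 3 * 2 from rfl, pow_mul, hcube, pow_two, hcc]
  have h7 := cube_eq_one h hx habD hnc2 h6
  rw [hcube] at h7
  have hbseq : s = b := by
    rw [hbsc, h7, mul_one]
  refine ⟨htD, hbt, hxt, hxtD, hat4, ?_⟩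
  rw [← hbseq, hs, hcm.eq, hm]
  simp only [mul_assoc]

end Cfsg.Agent.H733
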