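import Mathlib
import Cfsg.Agent.H733.NoFour
import Cfsg.Agent.S5044

/-!
# Root involutions: `𝓔(D)` is connected, `G = ⟨X_d, x⟩`
-/

set_option autoImplicit false

namespace Cfsg.Agent.H733

open Cfsg Cfsg.Agent.H737

universe u

/-- `𝓔(D)` is connected for a nondegenerate class of root involutions. -/
theorem prod_connected {G : Type u} [Group G] [Finite G] {D : Set G}
    (hnd : IsNondegenerateRootInvolutionSet D) (hcl : IsRootInvolutionClass D) :
    IsConnectedSet (ProdAdj D) D := by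
  suffices H : ∀ (n : ℕ) (K : Type u) [Group K] [Finite K] (D' : Set K), Nat.card K = n →
      IsNondegenerateRootInvolutionSet D' → IsRootInvolutionClass D' →
      IsConnectedSet (ProdAdj D') D' from H _ G D rfl hnd hcl
  intro n
  induction n using Nat.strong_induction_on with
  | _ n IH0 =>
  intro G _ _ D hcard hnd hcl
  have IH : ∀ (K : Type u) [Group K] [Finite K] (D' : Set K), Nat.card K < Nat.card G →
      IsNondegenerateRootInvolutionSet D' → IsRootInvolutionClass D' →
      IsConnectedSet (ProdAdj D') D' := by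
    intro K _ _ D' hlt h1 h2
    exact IH0 (Nat.card K) (by omega) K D' rfl h1 h2
  have h := hnd.1
  have hex : ∃ a ∈ D, ∃ b ∈ D, Opp a b := by
    obtain ⟨a, ha, b, hb, h1, h2⟩ := hnd.2.2.1
    exact ⟨a, ha, b, hb, h1, h2⟩
  have hc := odd_connected hcl hex
  intro a0 ha0 v0 hv0
  by_contra hcon
  -- an opposite pair in different components
  obtain ⟨a, ha, v, hv, hav, hne⟩ : ∃ a ∈ D, ∃ v ∈ D, Opp a v ∧ ¬ EC D a v := by
    by_contra hall
    push Not at hall
    apply hcon
    exact (hc a0 ha0 v0 hv0).lift' id (fun x y hxy => hall x hxy.1 y hxy.2.1 (opp_of_oddAdj hxy))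
  -- a product of commuting members in `D`
  have hDD : (D ∩ commutingProducts D).Nonempty := by
    obtain ⟨p, hp, q, hq, hpq⟩ := hnd.2.2.2
    obtain ⟨h1, h2, h3, h4⟩ := mem_productPartners.1 (order_four_partner h hp hq hpq).1
    exact ⟨_, h4, p, hp, _, h1, h2.eq, ne_one_of_mem h h4, rfl⟩
  rcases S5044.result h hDD with h1 | h1 | h1 | h1
  · exact prod_connected_of_comm IH hnd hcl hc h1 ha hv hav hne
  · obtain ⟨F, iF, iFin, hchar, -, ⟨e⟩⟩ := h1
    exact not_noFour_quotient hnd hc (noFour_psl.congr e)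
  · exact not_noFour_quotient hnd hc (noFour_suzuki h1)
  · obtain ⟨F, iF, iFin, q, hchar, hF, hq, ⟨e⟩⟩ := h1
    exact not_noFour_quotient hnd hc ((noFour_psu hF hq).congr e)

/-- `G = ⟨X_d, x⟩` for opposite `x`, `d`. -/
theorem closure_eq_top {G : Type u} [Group G] [Finite G] {D : Set G}
    (hnd : IsNondegenerateRootInvolutionSet D) (hcl : IsRootInvolutionClass D) {d x : G}
    (hd : d ∈ D) (hx : x ∈ D) (hxd : Opp x d) :
    Subgroup.closure (productPartners D d ∪ {x}) = ⊤ := by
  have h := hnd.1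
  have hex : ∃ a ∈ D, ∃ b ∈ D, Opp a b := ⟨x, hx, d, hd, hxd⟩
  have hc := odd_connected hcl hex
  obtain ⟨H, hH⟩ : ∃ H, H = Subgroup.closure (productPartners D d ∪ {x}) := ⟨_, rfl⟩
  rw [← hH]
  -- some member of `X_d`
  obtain ⟨e, he⟩ : ∃ e, e ∈ productPartners D d := by
    obtain ⟨p, hp, q, hq, hpq⟩ := hnd.2.2.2
    obtain ⟨g, hg⟩ := hcl.2.2 p hp d hd
    have h1 := prodAdj_conj h g (prodAdj_iff.2 ⟨hp, (order_four_partner h hp hq hpq).1⟩)
    rw [← hg] at h1
    exact ⟨_, (prodAdj_iff.1 h1).2⟩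
  have hdH : d ∈ H := by
    obtain ⟨h1, h2, h3, h4⟩ := mem_productPartners.1 he
    have h5 : d * e ∈ productPartners D d := by
      refine mem_productPartners.2 ⟨h4, (Commute.refl d).mul_right h2, ?_, ?_⟩
      · intro h6
        have : d * 1 = d * e := by rw [mul_one]; exact h6
        exact ne_one_of_mem h h1 (mul_left_cancel this).symm
      · rw [← mul_assoc, sq_of_mem h hd, one_mul]; exact h1
    have h6 : d = (d * e) * e⁻¹ := by group
    rw [h6, hH]
    exact mul_mem (Subgroup.subset_closure (Or.inl h5))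
      (inv_mem (Subgroup.subset_closure (Or.inl he)))
  have hxH : x ∈ H := by rw [hH]; exact Subgroup.subset_closure (Or.inr rfl)
  -- `Δ = d^H`
  have key : ∀ y, EC D d y → ∃ g ∈ H, g * d * g⁻¹ = y := by
    intro y hy
    induction hy with
    | refl => exact ⟨1, one_mem _, by group⟩
    | @tail y z hy hyz ih =>
      obtain ⟨g, hg, hgy⟩ := ih
      have h1 := prodAdj_conj h g⁻¹ hyz
      have h2 : g⁻¹ * y * g⁻¹⁻¹ = d := by rw [← hgy]; group
      rw [h2] at h1
      obtain ⟨k, hk, hkz⟩ := partner_conj h hc hd hx hxd (prodAdj_iff.1 h1).2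
      rw [← hH] at hk
      refine ⟨g * k, mul_mem hg hk, ?_⟩
      have h3 : z = g * (g⁻¹ * z * g⁻¹⁻¹) * g⁻¹ := by group
      rw [h3, ← hkz]; group
  have hDH : D ⊆ H := by
    intro y hy
    obtain ⟨g, hg, hgy⟩ := key y (prod_connected hnd hcl d hd y hy)
    rw [← hgy]
    exact mul_mem (mul_mem hg hdH) (inv_mem hg)
  rw [eq_top_iff, ← h.generates, Subgroup.closure_le]
  exact hDH

end Cfsg.Agent.H733
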